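import Mathlib
import Cfsg.Agent.Lib.Helper44.Frob3.Defs
import Cfsg.Agent.Lib.Helper80.CharKer
import Cfsg.Agent.Lib.Helper81.CharCore

/-!
# S4427 team project, package [F]: if `c · 1_{p-regular}` is a non-negative integer combination
of irreducible characters, the `p`-regular elements form a normal subgroup
-/

set_option autoImplicit false

namespace Cfsg.Agent.Lib.Helper64.Frob3

open Cfsg.Agent.Lib.Helper44.Frob3

universe u

/-- **Package [F] of S4427** -/
theorem pkgFinish : Cfsg.Agent.Lib.Helper44.Frob3.PkgFinish.{u} := by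
  intro G _ _ p hp n c hc hn hsum
  classical
  have hfinI : Finite (Cfsg.IrrCharacter G) := Cfsg.Agent.Lib.Helper81.irr_finite G
  have : Fintype (Cfsg.IrrCharacter G) := Fintype.ofFinite _
  have hsum' : ∀ x : G, ∑ χ : Cfsg.IrrCharacter G, (n χ : ℂ) * (χ : G → ℂ) x =
      if p ∣ orderOf x then 0 else c := by
    intro x
    rw [← finsum_eq_sum_of_fintype]
    exact hsum x
  have hchar : ∀ χ : Cfsg.IrrCharacter G, Cfsg.IsCharacter G (χ : G → ℂ) := fun χ =>
    Cfsg.Agent.Lib.Helper80.isCharacter_of_isIrrCharacter χ.2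
  refine ⟨⨅ χ : {χ : Cfsg.IrrCharacter G // n χ ≠ 0}, Cfsg.Agent.Lib.Helper80.irrKer χ.1, ?_, ?_⟩
  · exact Subgroup.normal_iInf_normal (fun χ => inferInstance)
  · intro g
    have h1 : ∑ χ : Cfsg.IrrCharacter G, (n χ : ℂ) * (χ : G → ℂ) 1 = c := by
      rw [hsum' 1, if_neg]
      rw [orderOf_one]
      exact hp.one_lt.ne' ∘ Nat.dvd_one.1
    constructor
    · intro hg
      rw [Subgroup.mem_iInf] at hg
      have h2 : ∑ χ : Cfsg.IrrCharacter G, (n χ : ℂ) * (χ : G → ℂ) g = c := by
        rw [← h1]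
        apply Finset.sum_congr rfl
        intro χ _
        by_cases h0 : n χ = 0
        · rw [h0]; simp
        · rw [(Cfsg.Agent.Lib.Helper80.mem_irrKer χ g).1 (hg ⟨χ, h0⟩)]
      intro hpg
      rw [hsum' g, if_pos hpg] at h2
      exact hc h2.symm
    · intro hpg
      rw [Subgroup.mem_iInf]
      rintro ⟨χ, hχ⟩
      rw [Cfsg.Agent.Lib.Helper80.mem_irrKer]
      have h2 : ∑ χ : Cfsg.IrrCharacter G, (n χ : ℂ) * (χ : G → ℂ) g = c := by
        rw [hsum' g, if_neg hpg]
      have h3 : ∑ χ : Cfsg.IrrCharacter G,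
          (n χ : ℝ) * ((Cfsg.charDegree (χ : G → ℂ) : ℝ) - ((χ : G → ℂ) g).re) = 0 := by
        have h4 : ∑ χ : Cfsg.IrrCharacter G,
            ((n χ : ℂ) * (χ : G → ℂ) 1 - (n χ : ℂ) * (χ : G → ℂ) g) = 0 := by
          rw [Finset.sum_sub_distrib, h1, h2, sub_self]
        have h5 := congrArg Complex.re h4
        rw [Complex.re_sum, Complex.zero_re] at h5
        rw [← h5]
        apply Finset.sum_congr rfl
        intro χ _
        rw [Cfsg.Agent.Lib.Helper80.char_one_eq_charDegree (hchar χ)]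
        simp only [Complex.sub_re, Complex.mul_re, Complex.intCast_re, Complex.intCast_im,
          Complex.natCast_re, Complex.natCast_im, zero_mul, mul_zero, sub_zero]
        ring
      have hnonneg : ∀ χ : Cfsg.IrrCharacter G,
          0 ≤ (n χ : ℝ) * ((Cfsg.charDegree (χ : G → ℂ) : ℝ) - ((χ : G → ℂ) g).re) := by
        intro χ
        apply mul_nonneg (by exact_mod_cast hn χ)
        have h6 := Cfsg.Agent.Lib.Helper80.norm_char_le_charDegree (hchar χ) g
        have h7 : ((χ : G → ℂ) g).re ≤ ‖(χ : G → ℂ) g‖ := Complex.re_le_norm _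
        linarith
      have hterm := (Finset.sum_eq_zero_iff_of_nonneg (fun χ _ => hnonneg χ)).1 h3 χ
        (Finset.mem_univ _)
      have hnχ : (n χ : ℝ) ≠ 0 := by exact_mod_cast hχ
      have hre : ((χ : G → ℂ) g).re = (Cfsg.charDegree (χ : G → ℂ) : ℝ) := by
        rcases mul_eq_zero.1 hterm with h | h
        · exact (hnχ h).elim
        · linarith
      have h6 := Cfsg.Agent.Lib.Helper80.norm_char_le_charDegree (hchar χ) g
      rw [Cfsg.Agent.Lib.Helper80.char_one_eq_charDegree (hchar χ)]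
      have h8 : ‖(χ : G → ℂ) g‖ ^ 2 = ((χ : G → ℂ) g).re ^ 2 + ((χ : G → ℂ) g).im ^ 2 := by
        rw [Complex.sq_norm, Complex.normSq_apply]; ring
      have h9 : ‖(χ : G → ℂ) g‖ ^ 2 ≤ (Cfsg.charDegree (χ : G → ℂ) : ℝ) ^ 2 :=
        pow_le_pow_left₀ (norm_nonneg _) h6 2
      have h10 : ((χ : G → ℂ) g).im ^ 2 ≤ 0 := by
        rw [h8, hre] at h9
        linarith
      have h11 : ((χ : G → ℂ) g).im = 0 := by
        have := sq_nonneg ((χ : G → ℂ) g).im
        exact pow_eq_zero_iff (two_ne_zero) |>.1 (le_antisymm h10 this)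
      apply Complex.ext
      · rw [hre]; simp
      · rw [h11]; simp

end Cfsg.Agent.Lib.Helper64.Frob3
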